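import Cfsg.Agent.H444.FprConway
import Cfsg.Agent.H800.ME.CoFacts
import Cfsg.Agent.BpSpor.MBigCo
import Cfsg.Agent.LThreeBX.NoSeven

/-!
# The centralizers of the elements of order 11, 13, 23 of `Co1` (helper678)
-/

set_option autoImplicit false

namespace Cfsg.Agent.H678.OZ.CoOneData

open Cfsg Subgroup
open Cfsg.Spor (Co1)

theorem c23 (z : Co1) (hz : orderOf z = 23) : Nat.card (centralizer ({z} : Set Co1)) = 23 :=
  (H444.FprConway.known_co1.cent z hz).trans (mul_one 23)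

theorem cent_conj {G : Type*} [Group G] {x g : G} :
    Nat.card (centralizer ({g * x * g⁻¹} : Set G)) = Nat.card (centralizer ({x} : Set G)) := by
  refine Nat.card_congr ⟨fun c => ⟨g⁻¹ * c * g, ?_⟩, fun c => ⟨g * c * g⁻¹, ?_⟩, ?_, ?_⟩
  · have h3 := mem_centralizer_singleton_iff.1 c.2
    rw [mem_centralizer_singleton_iff]
    calc g⁻¹ * (c : G) * g * x = g⁻¹ * ((c : G) * (g * x * g⁻¹)) * g := by group
      _ = g⁻¹ * ((g * x * g⁻¹) * (c : G)) * g := by rw [h3]
      _ = x * (g⁻¹ * (c : G) * g) := by group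
  · have h3 := mem_centralizer_singleton_iff.1 c.2
    rw [mem_centralizer_singleton_iff]
    calc g * (c : G) * g⁻¹ * (g * x * g⁻¹) = g * ((c : G) * x) * g⁻¹ := by group
      _ = g * (x * (c : G)) * g⁻¹ := by rw [h3]
      _ = g * x * g⁻¹ * (g * (c : G) * g⁻¹) := by group
  · intro c
    apply Subtype.ext
    change g * (g⁻¹ * (c : G) * g) * g⁻¹ = c
    group
  · intro c
    apply Subtype.ext
    change g⁻¹ * (g * (c : G) * g⁻¹) * g = c
    group

theorem c11 (z : Co1) (hz : orderOf z = 11) : Nat.card (centralizer ({z} : Set Co1)) = 66 := by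
  obtain ⟨g, rfl⟩ := H800.ME.CoFacts.conj_s hz
  rw [cent_conj, H800.ME.CoFacts.card_cent]

/-- `|C_{Co1}(a)|` divides `|C_{Co0}(a)|` for `a` of odd order -/
theorem card_cent_dvd {a : Co0} {n : ℕ} (hn : Odd n) (ha : a ^ n = 1) :
    Nat.card ↥(centralizer ({(QuotientGroup.mk a : Co1)} : Set Co1)) ∣ Nat.card ↥(centralizer ({a} : Set Co0)) := by
  let f : ↥(centralizer ({a} : Set Co0)) →* ↥(centralizer ({(QuotientGroup.mk a : Co1)} : Set Co1)) :=
    ((QuotientGroup.mk' (center Co0)).comp (Subgroup.subtype _)).codRestrict _ (by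
      intro c
      have h1 := mem_centralizer_singleton_iff.1 c.2
      rw [mem_centralizer_singleton_iff]
      change (QuotientGroup.mk (c : Co0) : Co1) * QuotientGroup.mk a = QuotientGroup.mk a * QuotientGroup.mk (c : Co0)
      rw [← QuotientGroup.mk_mul, ← QuotientGroup.mk_mul, h1])
  refine Subgroup.card_dvd_of_surjective f ?_
  rintro ⟨c, hc⟩
  obtain ⟨b, rfl⟩ := QuotientGroup.mk_surjective c
  have h1 := mem_centralizer_singleton_iff.1 hc
  exact ⟨⟨b, mem_centralizer_singleton_iff.2 (LThreeBX.NoSeven.comm_of_mk hn ha h1.symm).symm⟩, rfl⟩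

/-- lifts of prime order -/
theorem exists_lift {s : Co1} {r : ℕ} (hr : r.Prime) (h2 : r ≠ 2) (hs : orderOf s = r) :
    ∃ a : Co0, (QuotientGroup.mk a : Co1) = s ∧ a ^ r = 1 ∧ orderOf a = r := by
  have : Fact r.Prime := ⟨hr⟩
  obtain ⟨a, ha, ha13⟩ := LThreeBX.NoSeven.exists_odd (n := r) (hr.odd_of_ne_two h2)
    (show s ^ r = 1 by rw [← hs, pow_orderOf_eq_one])
  refine ⟨a, ha, ha13, orderOf_eq_prime ha13 ?_⟩
  rintro rfl
  have h1 : s = 1 := ha.symm
  rw [h1, orderOf_one] at hs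
  exact hr.one_lt.ne hs

theorem c13 (z : Co1) (hz : orderOf z = 13) : ¬ 7 ∣ Nat.card (centralizer ({z} : Set Co1)) := by
  obtain ⟨a, rfl, ha, hao⟩ := exists_lift (by norm_num) (by norm_num) hz
  intro h
  exact BpSpor.MBigCo.not_dvd_thirteen hao (q := 7) (by norm_num) (by norm_num) (by norm_num)
    (h.trans (card_cent_dvd (by decide) ha))

end Cfsg.Agent.H678.OZ.CoOneData
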