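import Cfsg.Agent.H604.OZ.Basic
import Cfsg.Agent.S0908
import Cfsg.Agent.S0924
import Cfsg.Agent.S0959
import Cfsg.Agent.S4710
import Cfsg.Agent.Blocks.ExistsModular

/-!
# One vanishing class: degrees divisible by `p` exactly once, `|G|_p = p²`

`h : One χ x`.  If `p ^ 2 = |G|_p` and `p ∣ χ(1)` the block of `χ` has defect at most one
(`blockDefect_le_one`), hence `χ` vanishes on the sections of all but one class of subgroups of
order `p` (`not_dvd_of_two`).
-/

set_option autoImplicit false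

open Cfsg Cfsg.Agent.Characters Cfsg.Agent.H686.CharKit Cfsg.Agent.H732.VZ
open Cfsg.Agent.H604.OZ (cent ne_one one_lt_deg orderOf_eq_of_conj)

namespace Cfsg.Agent.H678.OZ

universe u

variable {G : Type u} [Group G] [Finite G]

/-- `|G|_p = p ^ 2` and `p ∣ χ(1)`: the defect is at most one. -/
theorem blockDefect_le_one {p : ℕ} [hpf : Fact p.Prime] {M : Ideal AlgInt} (hM : IsPModular p M)
    (χ : IrrCharacter G) (h2 : (Nat.card G).factorization p = 2)
    (hd : p ∣ charDegree (χ : G → ℂ)) : blockDefect p (blockOf M (χ : G → ℂ)) ≤ 1 := by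
  have hB : IsPBlock M (blockOf M (χ : G → ℂ)) := ⟨χ, rfl⟩
  have hprime : M.IsPrime := hM.2.1.isPrime
  have hχB : χ ∈ blockOf M (χ : G → ℂ) := Blocks.Basic.mem_blockOf_self χ
  by_contra hlt
  rw [not_le] at hlt
  have h3 := ((S4710.result p M hM _ hB _ rfl).2 χ hχB).2 hlt
  unfold blockDefect at h3 hlt
  unfold blockHeight at h3
  rw [h2] at h3 hlt
  have h4 : 1 ≤ (charDegree (χ : G → ℂ)).factorization p :=
    (hpf.out.dvd_iff_one_le_factorization (charDegree_pos χ).ne').1 hd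
  omega

/-- Two elements of the block's defect groups of order at most `p`. -/
theorem card_cent_eq {p : ℕ} [hpf : Fact p.Prime] {M : Ideal AlgInt} (hM : IsPModular p M)
    {B : Set (IrrCharacter G)} (hB : IsPBlock M B) (hdef : blockDefect p B ≤ 1)
    {D₁ D₂ : Subgroup G} (hD₁ : IsDefectGroup p M B D₁) (hD₂ : IsDefectGroup p M B D₂)
    {y₁ y₂ : G} (h₁ : y₁ ∈ D₁) (h₂ : y₂ ∈ D₂) (o₁ : orderOf y₁ = p) (o₂ : orderOf y₂ = p) :
    cent y₁ = cent y₂ := by
  have hp := hpf.out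
  -- the defect groups are generated by `y₁`, `y₂`
  have hgen : ∀ (D : Subgroup G), IsDefectGroup p M B D → ∀ y ∈ D, orderOf y = p →
      Subgroup.zpowers y = D := by
    intro D hD y hy ho
    refine Subgroup.eq_of_le_of_card_ge (by rwa [Subgroup.zpowers_le]) ?_
    rw [S0908.result p M hM B hB D hD, Nat.card_zpowers, ho]
    calc p ^ blockDefect p B ≤ p ^ 1 := Nat.pow_le_pow_right hp.pos hdef
      _ = p := pow_one p
  have hg₁ := hgen D₁ hD₁ y₁ h₁ o₁
  have hg₂ := hgen D₂ hD₂ y₂ h₂ o₂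
  -- conjugacy
  have hP₁ := Blocks.Basic.isPGroup_of_isDefectGroup hD₁
  have hex := (S0959.result p M hM B hB D₁ hD₁ D₁ hP₁).2 ⟨1, by
    rintro _ ⟨w, hw, rfl⟩
    simpa using hw⟩
  obtain ⟨g, hg⟩ := (S0959.result p M hM B hB D₂ hD₂ D₁ hP₁).1 hex
  have hgy : g * y₁ * g⁻¹ ∈ D₂ := by
    refine hg (Subgroup.mem_map.2 ⟨y₁, h₁, ?_⟩)
    simp [MulAut.conj_apply]
  have horder : orderOf (g * y₁ * g⁻¹) = p := by
    have := (MulAut.conj g).orderOf_eq y₁
    rw [MulAut.conj_apply] at this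
    rw [this, o₁]
  have hz : Subgroup.zpowers (g * y₁ * g⁻¹) = Subgroup.zpowers y₂ := by
    rw [hgen D₂ hD₂ _ hgy horder, hg₂]
  -- centralizers
  have hcen : Subgroup.centralizer ({g * y₁ * g⁻¹} : Set G) = Subgroup.centralizer ({y₂} : Set G) := by
    rw [← Subgroup.centralizer_closure, ← Subgroup.zpowers_eq_closure, hz,
      Subgroup.zpowers_eq_closure, Subgroup.centralizer_closure]
  have hconj : cent (g * y₁ * g⁻¹) = cent y₁ := by
    unfold cent
    refine Nat.card_congr ⟨fun c => ⟨g⁻¹ * c * g, ?_⟩, fun c => ⟨g * c * g⁻¹, ?_⟩, ?_, ?_⟩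
    · have h3 := Subgroup.mem_centralizer_singleton_iff.1 c.2
      rw [Subgroup.mem_centralizer_singleton_iff]
      calc g⁻¹ * (c : G) * g * y₁ = g⁻¹ * ((c : G) * (g * y₁ * g⁻¹)) * g := by group
        _ = g⁻¹ * ((g * y₁ * g⁻¹) * (c : G)) * g := by rw [h3]
        _ = y₁ * (g⁻¹ * (c : G) * g) := by group
    · have h3 := Subgroup.mem_centralizer_singleton_iff.1 c.2
      rw [Subgroup.mem_centralizer_singleton_iff]
      calc g * (c : G) * g⁻¹ * (g * y₁ * g⁻¹) = g * ((c : G) * y₁) * g⁻¹ := by group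
        _ = g * (y₁ * (c : G)) * g⁻¹ := by rw [h3]
        _ = g * y₁ * g⁻¹ * (g * (c : G) * g⁻¹) := by group
    · intro c
      apply Subtype.ext
      change g * (g⁻¹ * (c : G) * g) * g⁻¹ = c
      group
    · intro c
      apply Subtype.ext
      change g⁻¹ * (g * (c : G) * g⁻¹) * g = c
      group
  rw [← hconj]
  unfold cent
  rw [hcen]

/-- **The degree is prime to `p`** if `|G|_p = p ^ 2` and two elements of order `p` have
centralizers of different orders which are not `p`-groups. -/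
theorem not_dvd_of_two {χ : IrrCharacter G} {x : G} (h : One χ x) {p : ℕ} (hp : p.Prime)
    (h1 : p ^ 2 ∣ Nat.card G) (h2 : ¬ p ^ 3 ∣ Nat.card G) {y₁ y₂ u₁ u₂ : G}
    (o₁ : orderOf y₁ = p) (o₂ : orderOf y₂ = p) (hne : cent y₁ ≠ cent y₂)
    (c₁ : Commute y₁ u₁) (c₂ : Commute y₂ u₂) (hu₁ : u₁ ≠ 1) (hu₂ : u₂ ≠ 1)
    (hp₁ : ¬ p ∣ orderOf u₁) (hp₂ : ¬ p ∣ orderOf u₂) : ¬ p ∣ charDegree (χ : G → ℂ) := by
  intro hd
  have hpf : Fact p.Prime := ⟨hp⟩
  obtain ⟨M, hM⟩ := Blocks.ExistsModular.exists_isPModular hp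
  have hfac : (Nat.card G).factorization p = 2 := by
    have hN : Nat.card G ≠ 0 := Nat.card_pos.ne'
    have h3 := (hp.pow_dvd_iff_le_factorization hN).1 h1
    have h4 := (hp.pow_dvd_iff_le_factorization hN).not.1 h2
    omega
  have hB : IsPBlock M (blockOf M (χ : G → ℂ)) := ⟨χ, rfl⟩
  have hdef := blockDefect_le_one hM χ hfac hd
  -- one of the two elements lies in no defect group
  have hout : ∀ y u : G, orderOf y = p → Commute y u → u ≠ 1 → ¬ p ∣ orderOf u →
      (∀ D : Subgroup G, IsDefectGroup p M (blockOf M (χ : G → ℂ)) D → y ∉ D) → False := by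
    intro y u ho hc hu hpu hD
    have hz1 : (χ : G → ℂ) y = 0 := S0924.result p M hM χ y y
      ⟨1, mul_one y, Commute.one_right y, ⟨1, by rw [ho, pow_one]⟩, by
        rw [orderOf_one]; exact fun h => hp.one_lt.ne' (Nat.dvd_one.1 h)⟩ hD
    have hz2 : (χ : G → ℂ) (y * u) = 0 := S0924.result p M hM χ (y * u) y
      ⟨u, rfl, hc, ⟨1, by rw [ho, pow_one]⟩, hpu⟩ hD
    have hcj := (h.uniq y hz1).symm.trans (h.uniq _ hz2)
    have ho2 := orderOf_eq_of_conj hcj
    rw [hc.orderOf_mul_eq_mul_orderOf_of_coprime (by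
      rw [ho]; exact (Nat.Prime.coprime_iff_not_dvd hp).2 hpu), ho] at ho2
    have : orderOf u = 1 := by
      have hpos := hp.pos
      nlinarith [Nat.eq_of_mul_eq_mul_left hpos (show p * 1 = p * orderOf u by rw [mul_one]; exact ho2)]
    exact hu (orderOf_eq_one_iff.1 this)
  by_cases hy : ∃ D : Subgroup G, IsDefectGroup p M (blockOf M (χ : G → ℂ)) D ∧ y₁ ∈ D
  · obtain ⟨D₁, hD₁, hm₁⟩ := hy
    by_cases hy' : ∃ D : Subgroup G, IsDefectGroup p M (blockOf M (χ : G → ℂ)) D ∧ y₂ ∈ D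
    · obtain ⟨D₂, hD₂, hm₂⟩ := hy'
      exact hne (card_cent_eq hM hB hdef hD₁ hD₂ hm₁ hm₂ o₁ o₂)
    · push Not at hy'
      exact hout y₂ u₂ o₂ c₂ hu₂ hp₂ hy'
  · push Not at hy
    exact hout y₁ u₁ o₁ c₁ hu₁ hp₁ hy

end Cfsg.Agent.H678.OZ
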